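/- Data for the group `(SL2(3) ∘ SL2(3)).2` of `G2(3)`-type (generated by genGD.py). -/
import Cfsg.Agent.REC.E32.Mod
import Cfsg.Agent.REC.G23.H

set_option autoImplicit false
set_option maxRecDepth 100000
set_option synthInstance.maxSize 4000
set_option linter.unusedSimpArgs false

namespace CL.G23

open Subgroup CL.CE CL.A10 CL.Reg CL.K CL.E32

variable {G : Type*} [Group G]

noncomputable def r1 : H := RG.mk' H_good (nat_lit 17)
noncomputable def p2 : H := RG.mk' H_good (nat_lit 33)
noncomputable def p3 : H := RG.mk' H_good (nat_lit 71)
noncomputable def τ : H := RG.mk' H_good (nat_lit 92)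
noncomputable def t0 : H := RG.mk' H_good (nat_lit 204)
noncomputable def e2 : H := RG.mk' H_good (nat_lit 196)
noncomputable def zp : H := RG.mk' H_good (nat_lit 122)
noncomputable def W (w : H) : List ℕ := force (fld 24 16777215 (nat_lit 0x11230000000000000000230000000000000000000000000000000000000000000000000000000000000000000000000000000000000000000000000000000000000000000000000001320000000000000003120000000000000000000000000000000000000000000000000000000000000000000000000000000000000000000000000000000000000000000000000000000000000000000000000000000000000000000000000000000000000000000000000000000000000000000000000000000000000000000000000000000000000000000000000000000000000000000000000002130000000000000001230000000000000000000000000000000000000000000011320000000000000000000000000000000000000000000000320000000000000000000000000000000000000000000000000000000000000000000000000000000000000000000000000000000000000000000000000000000000000000000000000000000000000000000000000000000000000000000000000000000000000000000000000000000000000000000000000000000000000000000000000000000000000000000000000000000000000000000000000000000000000000000000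00000000000000000000000000000000000000000000000000000000011232000000000000000000000000000000000000000000000232000000000000000000000000000000000000000000000000000000000000011323000323000000000000000000000000000000000000000000000113000000000000000000000000000000000000000000000000000000000000000000000000000000000000000000000000000000000000000000000000000000000000000000000000000000000000000000000000000000000000000000000000000000000000000000000000000000000000000000000000000000000000000000000000000000000000000000000000000000000000000000000000000000000000000000000000000000000000000000000000000000000000000000000000000000000000000000002132000000000000000000000000000000000000000000000000000000000000000000000000000000001232000000000000000000000000000000000000000000000000000000000000000000000000000000000000000000000000000000000000000000000000000000000000000000000000000000000000000000000000000000000000000000000000000000000000000000000000000000000000000000000000000000000000000000000000000000000000000000000000003123001323000000000000000000000000000000000000000000000013000000000000000000000000000000000000000000000000000000000031000000000000000000000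000000000000000000000000000000000000000000000000000000000000000000000000000000000000000000000000000000000000000000000000000000000000000000012000021000000000000000000000000000000000000000000000000000000000000000000000000000000000000000000000000000000000000000000000000000000000000000003000000000000000000000000000000000000000000000000000000000000000000000000000000000000000000000000000000000000000000000000000000000000000000000000000000000000000000000000000000000000000000000000000000000000000000000000000112000002000000000000000000000000000000000000000000000000000000000000000000000000000000000000112323002323000000000000000011000000000000000000000000000000000000000000012323021323000000000000000111000001000000) w.val) (dig 6)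
noncomputable def A1 (w : H) : H := RG.mk' H_good (fld 10 1023 (nat_lit 0x5f800001b50000000000000000000000000000000000000000000000000000800000050000000000000000000000000000000000000000000000000000000000000000000000000000000000000000000000000000000000000000000000000040000006000000000000000001b2000000000000000001810000000000000000000000000000000000000000000000000000000000000000000000000000000000000000000000000000000000000000000000000000000000000000000000000000000000000000000be000000000000000000840000000000000000000000000089190000000000000000007a0000000000000000000000000000000000000000000000000000000000000000000000000000000000000000000000000000000000000000000000000000000000000000000000000000000000000000000000005f0000000000000000000000000000000008c0000000000000000000000000000000000000000000000000000000000000000000000000000000000000000000000000000000000000000000000004412c0000000000000000005e000000000000000000000008d0000000000000000000000000000000000000000000000000000000000000000011d24000000000000000000000000000000000000000000000000000000033000000000000000000000000000000000000000000000000000000000000000000000000000000000000000000118084000000000000000000000000000000000000e0480000011000000000000000001cd5d800001ca5b800)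 w.val)
noncomputable def A2 (w : H) : H := RG.mk' H_good (fld 10 1023 (nat_lit 0x5f800001b50000000000000000000000000000000000000000000000000000800000050000000000000000000000000000000000000000000000000000000000000000000000000000000000000000000000000000000000000000000000000040000006000000000000000001b2000000000000000001810000000000000000000000000000000000000000000000000000000000000000000000000000000000000000000000000000000000000000000000000000000000000000000000000000000000000000000220000000000000000011900000000000000000000000001e8cc00000000000000000118000000000000000000000000000000000000000000000000000000000000000000000000000000000000000000000000000000000000000000000000000000000000000000000000000000000000000000000001100000000000000000000000000000000012c0000000000000000000000000000000000000000000000000000000000000000000000000000000000000000000000000000000000000000000000002345e000000000000000000470000000000000000000000124000000000000000000000000000000000000000000000000000000000000000002305f0000000000000000000000000000000000000000000000000000000084000000000000000000000000000000000000000000000000000000000000000000000000000000000000000000be210000000000000000000000000000000000000e0480000011000000000000000001cd5d800001ca5b800)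 w.val)
noncomputable def A3 (w : H) : H := RG.mk' H_good (fld 10 1023 (nat_lit 0x6c8000018100000000000000000000000000000000000000000000000000014000000200000000000000000000000000000000000000000000000000000000000000000000000000000000000000000000000000000000000000000000000001800000010000000000000000017e000000000000000001b500000000000000000000000000000000000000000000000000000000000000000000000000000000000000000000000000000000000000000000000000000000000000000000000000000000000000000007a000000000000000000cc000000000000000000000000008919000000000000000000be0000000000000000000000000000000000000000000000000000000000000000000000000000000000000000000000000000000000000000000000000000000000000000000000000000000000000000000000008c0000000000000000000000000000000005f00000000000000000000000000000000000000000000000000000000000000000000000000000000000000000000000000000000000000000000000011d240000000000000000008d000000000000000000000005e000000000000000000000000000000000000000000000000000000000000000004412c000000000000000000000000000000000000000000000000000000021000000000000000000000000000000000000000000000000000000000000000000000000000000000000000000118084000000000000000000000000000000000000e0480000011000000000000000001ca5b800001cd5d800)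 w.val)
noncomputable def A4 (w : H) : H := RG.mk' H_good (fld 10 1023 (nat_lit 0x6c8000018100000000000000000000000000000000000000000000000000014000000200000000000000000000000000000000000000000000000000000000000000000000000000000000000000000000000000000000000000000000000001800000010000000000000000017e000000000000000001b50000000000000000000000000000000000000000000000000000000000000000000000000000000000000000000000000000000000000000000000000000000000000000000000000000000000000000001180000000000000000002100000000000000000000000001e8cc000000000000000000220000000000000000000000000000000000000000000000000000000000000000000000000000000000000000000000000000000000000000000000000000000000000000000000000000000000000000000000012c000000000000000000000000000000001100000000000000000000000000000000000000000000000000000000000000000000000000000000000000000000000000000000000000000000000002305f000000000000000001240000000000000000000000047000000000000000000000000000000000000000000000000000000000000000002345e0000000000000000000000000000000000000000000000000000000464000000000000000000000000000000000000000000000000000000000000000000000000000000000000000000be210000000000000000000000000000000000000e0480000011000000000000000001ca5b800001cd5d800)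 w.val)
abbrev PL (u v w : H) : Prop := (u = RG.mk' H_good (nat_lit 366) ∧ v = RG.mk' H_good (nat_lit 33) ∧ w = RG.mk' H_good (nat_lit 204)) ∨
  (u = RG.mk' H_good (nat_lit 366) ∧ v = RG.mk' H_good (nat_lit 132) ∧ w = RG.mk' H_good (nat_lit 33)) ∨
  (u = RG.mk' H_good (nat_lit 374) ∧ v = RG.mk' H_good (nat_lit 33) ∧ w = RG.mk' H_good (nat_lit 132)) ∨
  (u = RG.mk' H_good (nat_lit 374) ∧ v = RG.mk' H_good (nat_lit 132) ∧ w = RG.mk' H_good (nat_lit 281))

theorem hW : ∀ w, Cm r1 w → al W a p2 p3 w = w := by decide +kernel
theorem tab1 : ∀ w, Cm r1 w → al W (RG.mk' H_good (nat_lit 366)) (RG.mk' H_good (nat_lit 33)) (RG.mk' H_good (nat_lit 204)) w = A1 w := by decide +kernel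
theorem tab2 : ∀ w, Cm r1 w → al W (RG.mk' H_good (nat_lit 366)) (RG.mk' H_good (nat_lit 132)) (RG.mk' H_good (nat_lit 33)) w = A2 w := by decide +kernel
theorem tab3 : ∀ w, Cm r1 w → al W (RG.mk' H_good (nat_lit 374)) (RG.mk' H_good (nat_lit 33)) (RG.mk' H_good (nat_lit 132)) w = A3 w := by decide +kernel
theorem tab4 : ∀ w, Cm r1 w → al W (RG.mk' H_good (nat_lit 374)) (RG.mk' H_good (nat_lit 132)) (RG.mk' H_good (nat_lit 281)) w = A4 w := by decide +kernel

def V : Subgroup H where
  carrier := {w | Nat.testBit (nat_lit 0x30000000000000000000000000000000000000000000000000000000000000600064001) w.val = true}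
  mul_mem' := fun {v w} hv hw => (by decide +kernel : ∀ v : H, Nat.testBit (nat_lit 0x30000000000000000000000000000000000000000000000000000000000000600064001) v.val = true →
    ∀ w : H, Nat.testBit (nat_lit 0x30000000000000000000000000000000000000000000000000000000000000600064001) w.val = true → Nat.testBit (nat_lit 0x30000000000000000000000000000000000000000000000000000000000000600064001) (v * w).val = true) v hv w hw
  one_mem' := (by decide +kernel : Nat.testBit (nat_lit 0x30000000000000000000000000000000000000000000000000000000000000600064001) (1 : H).val = true)
  inv_mem' := fun {v} hv => (by decide +kernel : ∀ v : H, Nat.testBit (nat_lit 0x30000000000000000000000000000000000000000000000000000000000000600064001) v.val = true →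
    Nat.testBit (nat_lit 0x30000000000000000000000000000000000000000000000000000000000000600064001) (v⁻¹).val = true) v hv

instance : DecidablePred (· ∈ V) := fun w => inferInstanceAs (Decidable (Nat.testBit (nat_lit 0x30000000000000000000000000000000000000000000000000000000000000600064001) w.val = true))

theorem card_V : Nat.card V = 8 := (RG.ncard_eq (· ∈ V)).trans (by decide +kernel)

def T : Subgroup H where
  carrier := {w | Nat.testBit (nat_lit 0x300000000000030000000000000000000000000000000400001000000003001) w.val = true}
  mul_mem' := fun {v w} hv hw => (by decide +kernel : ∀ v : H, Nat.testBit (nat_lit 0x300000000000030000000000000000000000000000000400001000000003001) v.val = true →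
    ∀ w : H, Nat.testBit (nat_lit 0x300000000000030000000000000000000000000000000400001000000003001) w.val = true → Nat.testBit (nat_lit 0x300000000000030000000000000000000000000000000400001000000003001) (v * w).val = true) v hv w hw
  one_mem' := (by decide +kernel : Nat.testBit (nat_lit 0x300000000000030000000000000000000000000000000400001000000003001) (1 : H).val = true)
  inv_mem' := fun {v} hv => (by decide +kernel : ∀ v : H, Nat.testBit (nat_lit 0x300000000000030000000000000000000000000000000400001000000003001) v.val = true →
    Nat.testBit (nat_lit 0x300000000000030000000000000000000000000000000400001000000003001) (v⁻¹).val = true) v hv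

instance : DecidablePred (· ∈ T) := fun w => inferInstanceAs (Decidable (Nat.testBit (nat_lit 0x300000000000030000000000000000000000000000000400001000000003001) w.val = true))

theorem card_T : Nat.card T = 3 ^ 2 := (RG.ncard_eq (· ∈ T)).trans (by decide +kernel)

def S : Subgroup H where
  carrier := {w | Nat.testBit (nat_lit 0x2400002400002400000240404040400000901010101003010000009240100040100040004010000030100400000cf000008000006007801fc1ff) w.val = true}
  mul_mem' := fun {v w} hv hw => (by decide +kernel : ∀ v : H, Nat.testBit (nat_lit 0x2400002400002400000240404040400000901010101003010000009240100040100040004010000030100400000cf000008000006007801fc1ff) v.val = true →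
    ∀ w : H, Nat.testBit (nat_lit 0x2400002400002400000240404040400000901010101003010000009240100040100040004010000030100400000cf000008000006007801fc1ff) w.val = true → Nat.testBit (nat_lit 0x2400002400002400000240404040400000901010101003010000009240100040100040004010000030100400000cf000008000006007801fc1ff) (v * w).val = true) v hv w hw
  one_mem' := (by decide +kernel : Nat.testBit (nat_lit 0x2400002400002400000240404040400000901010101003010000009240100040100040004010000030100400000cf000008000006007801fc1ff) (1 : H).val = true)
  inv_mem' := fun {v} hv => (by decide +kernel : ∀ v : H, Nat.testBit (nat_lit 0x2400002400002400000240404040400000901010101003010000009240100040100040004010000030100400000cf000008000006007801fc1ff) v.val = true →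
    Nat.testBit (nat_lit 0x2400002400002400000240404040400000901010101003010000009240100040100040004010000030100400000cf000008000006007801fc1ff) (v⁻¹).val = true) v hv

instance : DecidablePred (· ∈ S) := fun w => inferInstanceAs (Decidable (Nat.testBit (nat_lit 0x2400002400002400000240404040400000901010101003010000009240100040100040004010000030100400000cf000008000006007801fc1ff) w.val = true))

theorem card_S : Nat.card S = 2 ^ 6 := (RG.ncard_eq (· ∈ S)).trans (by decide +kernel)

noncomputable def σ2 : List H := [RG.mk' H_good (nat_lit 6), RG.mk' H_good (nat_lit 5), RG.mk' H_good (nat_lit 45), RG.mk' H_good (nat_lit 46), RG.mk' H_good (nat_lit 2), RG.mk' H_good (nat_lit 1), RG.mk' H_good (nat_lit 4), RG.mk' H_good (nat_lit 3), RG.mk' H_good (nat_lit 137), RG.mk' H_good (nat_lit 165), RG.mk' H_good (nat_lit 267), RG.mk' H_good (nat_lit 79), RG.mk' H_good (nat_lit 73)]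
noncomputable def σ3 : List H := [RG.mk' H_good (nat_lit 5), RG.mk' H_good (nat_lit 6), RG.mk' H_good (nat_lit 7), RG.mk' H_good (nat_lit 8), RG.mk' H_good (nat_lit 1), RG.mk' H_good (nat_lit 2), RG.mk' H_good (nat_lit 3), RG.mk' H_good (nat_lit 4), RG.mk' H_good (nat_lit 9), RG.mk' H_good (nat_lit 10), RG.mk' H_good (nat_lit 11), RG.mk' H_good (nat_lit 73), RG.mk' H_good (nat_lit 79)]
noncomputable def σ4 : List H := [RG.mk' H_good (nat_lit 1), RG.mk' H_good (nat_lit 2), RG.mk' H_good (nat_lit 15), RG.mk' H_good (nat_lit 16), RG.mk' H_good (nat_lit 5), RG.mk' H_good (nat_lit 6), RG.mk' H_good (nat_lit 7), RG.mk' H_good (nat_lit 8), RG.mk' H_good (nat_lit 165), RG.mk' H_good (nat_lit 137), RG.mk' H_good (nat_lit 172), RG.mk' H_good (nat_lit 39), RG.mk' H_good (nat_lit 29)]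
noncomputable def σ1 : List H := [RG.mk' H_good (nat_lit 6), RG.mk' H_good (nat_lit 5), RG.mk' H_good (nat_lit 7), RG.mk' H_good (nat_lit 8), RG.mk' H_good (nat_lit 2), RG.mk' H_good (nat_lit 1), RG.mk' H_good (nat_lit 3), RG.mk' H_good (nat_lit 4), RG.mk' H_good (nat_lit 236), RG.mk' H_good (nat_lit 101), RG.mk' H_good (nat_lit 491), RG.mk' H_good (nat_lit 249), RG.mk' H_good (nat_lit 196)]
/-- the twelve subgroups of order three inverted by `zp` -/
noncomputable def cases : List H := [x⁻¹ * a, x * a⁻¹, x * d * a, d * x⁻¹ * a, e * x * a, e⁻¹ * x⁻¹ * a⁻¹, e * x * d⁻¹ * a, e⁻¹ * d⁻¹ * x⁻¹ * a, e * a⁻¹, e⁻¹ * x, e⁻¹ * x * d⁻¹, e⁻¹ * a]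

/-- the relations of the additional generator -/
abbrev RE (a b c d x t e : G) : Prop :=
  e * (e * e) = 1 ∧ e * (a * (e⁻¹ * b⁻¹)) = 1 ∧ e * (b * (e⁻¹ * (b⁻¹ * a⁻¹))) = 1 ∧
  e * (c * (e⁻¹ * c⁻¹)) = 1 ∧ e * (d * (e⁻¹ * d⁻¹)) = 1 ∧ e * (x * (e⁻¹ * x⁻¹)) = 1 ∧
  t * (e * (t * e)) = 1

theorem exists_hom {a' b' c' d' x' t' e' : G} (h : RB a' b' c' d' x') (h' : RA a' b' c' d' x' t')
    (ht : t' * t' = 1) (he : RE a' b' c' d' x' t' e') :
    ∃ f : H →* G, (f a = a' ∧ f b = b' ∧ f c = c' ∧ f d = d' ∧ f x = x' ∧ f t = t' ∧ f e = e') ∧
      ∀ K : Subgroup G, a' ∈ K → b' ∈ K → c' ∈ K → d' ∈ K → x' ∈ K → t' ∈ K → e' ∈ K →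
        ∀ w, f w ∈ K := by
  have hP : Pres (lets [a', a'⁻¹, b', b'⁻¹, c', c'⁻¹, d', d'⁻¹, x', x'⁻¹, t', e', e'⁻¹]) iv Rels := by
    refine pres_lets _ ?_ rfl (by decide +kernel)
    simp only [Rels, List.forall_mem_cons, List.not_mem_nil, ev, lets, List.map, List.getD_cons_zero,
      List.getD_cons_succ, List.prod_cons, List.prod_nil, mul_one, IsEmpty.forall_iff, implies_true,
      and_true, mul_inv_cancel, inv_mul_cancel, true_and]
    obtain ⟨h1, h2, h3, h4, h5, h6, h7, h8, h9, h10, h11, h12, h13, h14, h15⟩ := h
    rw [RA, inv_eq_of_mul_eq_one_right ht] at h'
    obtain ⟨k1, k2, k3, k4, k5⟩ := h'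
    exact ⟨ht, h1, h2, h3, h4, h5, h6, h7, h8, h9, h10, h11, h12, h13, h14, h15, k1, k2, k3, k4, k5, he⟩
  obtain ⟨f, hr, hw⟩ := H_hom hP
  refine ⟨f, ⟨?_, ?_, ?_, ?_, ?_, ?_, ?_⟩, fun K ha hb hc hd hx ht he w => ?_⟩
  · rw [← wd_a, hw _ (by decide)]; simp [ev, lets]
  · rw [← wd_b, hw _ (by decide)]; simp [ev, lets]
  · rw [← wd_c, hw _ (by decide)]; simp [ev, lets]
  · rw [← wd_d, hw _ (by decide)]; simp [ev, lets]
  · rw [← wd_x, hw _ (by decide)]; simp [ev, lets]
  · rw [← wd_t, hw _ (by decide)]; simp [ev, lets]
  · rw [← wd_e, hw _ (by decide)]; simp [ev, lets]
  · refine (hr.le.trans (gen_le_iff.2 ?_)) ⟨w, rfl⟩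
    simp [ev, lets, ha, hb, hc, hd, hx, ht, he]

theorem aa : a * a = s := by decide +kernel
theorem s_ne : s ≠ 1 := by decide +kernel
theorem s_comm : ∀ w : H, w * s = s * w := by decide +kernel

theorem ker_chk : ∀ k : H, k = 1 ∨ k = s ∨ ∃ g ∈ [a, b, c, d], g * k * g⁻¹ * k⁻¹ = s ∨
    ∃ g' ∈ [a, b, c, d], g' * (g * k * g⁻¹ * k⁻¹) * g'⁻¹ * (g * k * g⁻¹ * k⁻¹)⁻¹ = s := by
  decide +kernel

theorem mem_of_gen (K : Subgroup H) (ha : a ∈ K) (hb : b ∈ K) (hc : c ∈ K) (hd : d ∈ K) (hx : x ∈ K)
    (ht : t ∈ K) (he : e ∈ K) (w : H) : w ∈ K := by
  obtain ⟨f, ⟨e1, -⟩, h⟩ := exists_hom (a' := a) (b' := b) (c' := c) (d' := d) (x' := x) (t' := t)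
    (e' := e) (by decide +kernel) (by decide +kernel) (by decide +kernel) (by decide +kernel)
  have hs : f s ≠ 1 := by rw [← aa, map_mul, e1, aa]; exact s_ne
  obtain ⟨v, rfl⟩ := Finite.injective_iff_surjective.1 (inj_of_chk f hs ker_chk) w
  exact h K ha hb hc hd hx ht he v

/-- the endomorphism with given images of the letters -/
noncomputable def sg (l : List H) (w : H) : H := ev (lets l) (H_dat.W w.val)

theorem exists_aut (l : List H) (hl : ∀ r ∈ Rels, ev (lets l) r = 1) (hlen : l.length = 13)
    (hs : sg l s = s) : ∃ σ : H →* H, Function.Bijective σ ∧ σ s = s ∧ ∀ w, σ w = sg l w := by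
  obtain ⟨σ, -, hσ⟩ := H_hom (pres_lets l hl hlen (by decide +kernel))
  have h1 : ∀ w, σ w = sg l w := fun w => by rw [sg, ← hσ _ (RG.ltAll_W w), RG.wd_W]
  have h2 : σ s = s := (h1 s).trans hs
  exact ⟨σ, Finite.injective_iff_bijective.1 (inj_of_chk σ (by rw [h2]; exact s_ne) ker_chk), h2, h1⟩

theorem card_H : Nat.card H = 576 := RG.card

theorem fr [Finite G] (f : H →* G) (hs : f s ≠ 1)
    (hc : Nat.card (centralizer ({f s} : Set G)) = 576) : Fr f s := by
  have hi := inj_of_chk f hs ker_chk
  refine Fr.mk' hi (cent_of_card hi s_comm (hc.trans card_H.symm)) (by decide +kernel) s_ne S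
    (IsPGroup.of_card card_S) ?_ (by decide +kernel) fun w h => (by decide +kernel : ∀ w : H,
      a * w = w * a → b * w = w * b → c * w = w * c → d * w = w * d → w = 1 ∨ w = s) w
      (h a (by decide +kernel)) (h b (by decide +kernel)) (h c (by decide +kernel))
      (h d (by decide +kernel))
  have := S.card_mul_index
  rw [card_S, card_H] at this
  omega

theorem hPL : ∀ a', Cm r1 a' → a' * a' = r1 → ∀ b', Cm r1 b' → b' * b' = 1 → ∀ c', Cm r1 c' →
    c' * c' = 1 → al W a' b' c' r1 = s * r1 →
    (∃ ρ, Cm r1 ρ ∧ C3 (al W a' b' c') ρ a ∧ C3 (al W a' b' c') ρ p2 ∧ C3 (al W a' b' c') ρ p3) →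
    (∃ ρ, Cm r1 ρ ∧ CT (al W a' b' c') b ρ a ∧ CT (al W a' b' c') b ρ p2 ∧ CT (al W a' b' c') b ρ p3) →
    ∃ ρ, PL (ρ * a' * ρ⁻¹) (ρ * b' * ρ⁻¹) (ρ * c' * ρ⁻¹) := by decide +kernel

theorem pin_of {f : H →* G} (F : Fr f s) {y : G} (h : Acts f (Cm r1) y A1) : ∃ y', Pin f r1 A1 τ y' :=
  F.pin_fix h (by decide +kernel) (by decide +kernel) (by decide +kernel) (by decide +kernel)
    (by decide +kernel) (by decide +kernel) (by decide +kernel) (by decide +kernel) (by decide +kernel)
    (by decide +kernel)

theorem twist {f : H →* G} (F : Fr f s) {y : G} {A : H → H} (h : Acts f (Cm r1) y A) (l : List H)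
    (hl : (∀ r ∈ Rels, ev (lets l) r = 1) ∧ l.length = 13 ∧ sg l s = s ∧
      ∀ w, Cm r1 w → Cm r1 (sg l w) ∧ A (sg l w) = sg l (A1 w)) :
    ∃ (σ : H →* H) (y' : G), (∀ w, σ w = sg l w) ∧ Fr (f.comp σ) s ∧ Pin (f.comp σ) r1 A1 τ y' := by
  obtain ⟨σ, h3, h4, h5⟩ := exists_aut l hl.1 hl.2.1 hl.2.2.1
  obtain ⟨y', hy'⟩ := pin_of (F.comp σ h3 h4) (h.comp σ (by simpa only [h5] using hl.2.2.2))
  exact ⟨σ, y', h5, F.comp σ h3 h4, hy'⟩

theorem pins {f : H →* G} (F : Fr f s) (hc : IsConj (f s) (f r1)) :
    ∃ (f' : H →* G) (y : G), Fr f' s ∧ Pin f' r1 A1 τ y := by
  obtain ⟨h, h1, h2⟩ := F.exists_h (u := a) (τ := b) (by decide +kernel) aa (by decide +kernel)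
    (by decide +kernel) (by decide +kernel) hc
  obtain ⟨_, _, _, hp, y, hy⟩ := F.exists_pin (τ := b) h1 h2 (by decide +kernel) hW (by decide +kernel)
    (by decide +kernel) (by decide +kernel) aa (by decide +kernel) (by decide +kernel) PL hPL
  rcases hp with ⟨rfl, rfl, rfl⟩ | ⟨rfl, rfl, rfl⟩ | ⟨rfl, rfl, rfl⟩ | ⟨rfl, rfl, rfl⟩
  · obtain ⟨y', hy'⟩ := pin_of F (hy.congr tab1)
    exact ⟨f, y', F, hy'⟩
  · obtain ⟨_, y', -, h⟩ := twist F (hy.congr tab2) σ2 (by decide +kernel)
    exact ⟨_, y', h⟩
  · obtain ⟨_, y', -, h⟩ := twist F (hy.congr tab3) σ3 (by decide +kernel)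
    exact ⟨_, y', h⟩
  · obtain ⟨_, y', -, h⟩ := twist F (hy.congr tab4) σ4 (by decide +kernel)
    exact ⟨_, y', h⟩

theorem invs : ∀ w : H, w * w = 1 → w = 1 ∨ w = s ∨ ∃ k, k * w * k⁻¹ = r1 ∨ k * w * k⁻¹ = t0 := by
  decide +kernel
theorem V_cent : ∀ k, (∀ u ∈ V, k * u * k⁻¹ = u) → k ∈ V := by decide +kernel
theorem T_gen : ∀ w ∈ T, ∃ i j : Fin 3, w = e ^ i.val * e2 ^ j.val := by decide +kernel
theorem T_inv : ∀ w ∈ T, t0 * w * t0⁻¹ = w⁻¹ := by decide +kernel
theorem T_cen : ∀ w : H, Cm e w → Cm e2 w → w * w = 1 → w = 1 ∨ w = s := by decide +kernel
theorem T_nor : ∀ k : H, k * e * k⁻¹ ∈ T → k * e2 * k⁻¹ ∈ T → (k ^ 3 = 1 → k ∈ T) ∧ k ^ (2 * 3) = 1 ∧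
    ((Cm e (k * t0) ∧ Cm e2 (k * t0)) ↔ ¬ (Cm e k ∧ Cm e2 k)) := by
  decide +kernel
theorem exp24 : ∀ w : H, (w ^ 3) ^ 8 = 1 := by decide +kernel
theorem cases_all : ∀ w : H, w ^ 3 = 1 → w ≠ 1 → zp * w * zp⁻¹ = w⁻¹ → w ∈ cases ∨ w⁻¹ ∈ cases := by
  decide +kernel

end CL.G23
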